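import Cfsg.Agent.E8Deg.Tab.Sets
import Cfsg.Agent.E8Deg.Tab.T0
import Cfsg.Agent.E8Deg.Tab.T1
import Cfsg.Agent.E8Deg.Tab.T2
import Cfsg.Agent.E8Deg.Tab.T3
import Cfsg.Agent.E8Deg.Chk

/-!
# Checks on the root sets
-/

set_option autoImplicit false
set_option synthInstance.maxSize 2000
set_option synthInstance.maxHeartbeats 200000
set_option maxRecDepth 20000

namespace Cfsg.Agent.E8Deg

open Cfsg.Lie

theorem der_Z : Derives (bs LV0 spreadZ) (239 :: List.ofFn L0 ++ [119]) spreadZ ∧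
    ∀ r ∈ List.range 240, r ∈ 239 :: List.ofFn L0 ++ [119] ∨ r ∈ spreadZ.map Prod.fst := by decide +kernel

theorem der_1 : Derives (bs LV1 spread1) (PU0 ++ List.ofFn L1) spread1 ∧
    ∀ r ∈ SS0, r ∈ PU0 ++ List.ofFn L1 ∨ r ∈ spread1.map Prod.fst := by decide +kernel

theorem der_2 : Derives (bs LV2 spread2) (PU1 ++ List.ofFn L2) spread2 ∧
    ∀ r ∈ SS1, r ∈ PU1 ++ List.ofFn L2 ∨ r ∈ spread2.map Prod.fst := by decide +kernel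

theorem der_3 : Derives (bs LV3 spread3) (PU2 ++ List.ofFn L3) spread3 ∧
    ∀ r ∈ SS2, r ∈ PU2 ++ List.ofFn L3 ∨ r ∈ spread3.map Prod.fst := by decide +kernel

theorem der_g0 : Derives [] (SS0 ++ [119]) gen0 ∧
    ∀ r ∈ List.range 240, r ∈ SS0 ++ [119] ∨ r ∈ gen0.map Prod.fst := by decide +kernel

theorem der_g1 : Derives [] (SS1 ++ [118]) gen1 ∧
    ∀ r ∈ SS0, r ∈ SS1 ++ [118] ∨ r ∈ gen1.map Prod.fst := by decide +kernel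

theorem der_g2 : Derives [] (SS2 ++ [77]) gen2 ∧
    ∀ r ∈ SS1, r ∈ SS2 ++ [77] ∨ r ∈ gen2.map Prod.fst := by decide +kernel

theorem refl_0 : chevE8.reflectRoot 7 119 = 120 ∧
    ∀ r ∈ PY0, r < 240 ∧ chevE8.reflectRoot 7 r < 240 ∧ chevE8.reflectRoot 7 r ∈ SS0 ∧
      chevE8.reflectRoot 7 (chevE8.reflectRoot 7 r) = r := by decide +kernel

theorem refl_1 : chevE8.reflectRoot 6 118 = 121 ∧
    ∀ r ∈ PY1, r < 240 ∧ chevE8.reflectRoot 6 r < 240 ∧ chevE8.reflectRoot 6 r ∈ SS1 ∧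
      chevE8.reflectRoot 6 (chevE8.reflectRoot 6 r) = r := by decide +kernel

theorem refl_2 : chevE8.reflectRoot 0 77 = 162 ∧
    ∀ r ∈ PY2, r < 240 ∧ chevE8.reflectRoot 0 r < 240 ∧ chevE8.reflectRoot 0 r ∈ SS2 ∧
      chevE8.reflectRoot 0 (chevE8.reflectRoot 0 r) = r := by decide +kernel

theorem sub_U : (∀ r ∈ PU0, r ∈ 239 :: List.ofFn L0) ∧ (∀ r ∈ PU1, r ∈ PU0 ++ List.ofFn L1) ∧
    (∀ r ∈ PU2, r ∈ PU1 ++ List.ofFn L2) ∧ (∀ r ∈ PU3, r ∈ PU2 ++ List.ofFn L3) ∧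
    (∀ r ∈ 239 :: List.ofFn L0, r ∈ PU0) ∧ (∀ r ∈ List.ofFn L3, r ∈ PA) ∧ 239 ∈ PA := by decide +kernel

theorem sub_Y : (L0 0 = 120 ∧ 239 ∈ PY0 ∧ ∀ j : Fin 56, j ≠ 0 → L0 j ∈ PY0) ∧
    (L1 0 = 121 ∧ (∀ r ∈ PU0, r ∈ PY1) ∧ ∀ j : Fin 27, j ≠ 0 → L1 j ∈ PY1) ∧
    (L2 0 = 162 ∧ (∀ r ∈ PU1, r ∈ PY2) ∧ ∀ j : Fin 16, j ≠ 0 → L2 j ∈ PY2) := by decide +kernel

theorem sub_row : (∀ j : Fin 56, j ∉ row0 → L0 j ∈ PA) ∧ (∀ j : Fin 27, j ∉ row1 → L1 j ∈ PA) ∧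
    (∀ j : Fin 16, j ∉ row2 → L2 j ∈ PA) ∧ row0.length = 7 ∧ row1.length = 6 ∧ row2.length = 5 := by
  decide +kernel

theorem sub_PA : ∀ r ∈ PA, r = 239 ∨ (∃ j : Fin 56, j ≠ 0 ∧ L0 j = r) ∨ r ∈ stab.map Prod.fst := by decide +kernel

theorem stab_ok : ∀ x ∈ stab, CommOk x ∧ x.2.1 ∈ M0 ∧ x.2.2.1 ∈ M0 ∧
    (∀ j : Fin 56, (tg0 x.2.1 j).map Prod.fst ≠ some 0) ∧
    ∀ j : Fin 56, (tg0 x.2.2.1 j).map Prod.fst ≠ some 0 := by decide +kernel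

theorem esc_ok : (118 : ℕ) ∈ M0 ∧ (tg0 118 1).map Prod.fst = some 0 ∧ (1 : Fin 56) ∈ core0 ∧
    (∀ s ∈ bot0, s ∈ core0 ∨ s = 0) ∧
    ∀ j : Fin 56, (tg0 118 j).map Prod.fst ≠ some (Fin.last _) ∧ (j ≠ 1 → (tg0 118 j).map Prod.fst ≠ some 0) := by
  decide +kernel

theorem big_ok : (∀ s ∈ core0, 29 ≤ (cel0 (Fin.last _)).length + (lw0 s).length) ∧
    (∀ s ∈ core1, 18 ≤ (cel1 (Fin.last _)).length + (lw1 s).length) ∧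
    (∀ s ∈ core2, 12 ≤ (cel2 (Fin.last _)).length + (lw2 s).length) ∧
    (∀ s ∈ core3, 8 ≤ (cel3 (Fin.last _)).length + (lw3 s).length) ∧
    (∀ s ∈ bot1, s ∈ core1) ∧ (∀ s ∈ bot2, s ∈ core2) ∧ (∀ s ∈ bot3, s ∈ core3) := by decide +kernel

theorem cel_lengths :
    (List.ofFn fun s => (cel0 s).length) = [0, 1, 2, 3, 4, 5, 5, 6, 7, 8, 9, 10, 6, 7, 8, 9, 10, 11, 9, 10, 11, 12,
      11, 12, 13, 13, 14, 15, 12, 13, 14, 14, 15, 16, 15, 16, 17, 18, 16, 17, 18, 19, 20, 21, 17, 18, 19, 20, 21, 22,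
      22, 23, 24, 25, 26, 27] ∧
    (List.ofFn fun s => (cel1 s).length) = [0, 1, 2, 3, 4, 4, 5, 6, 7, 8, 5, 6, 7, 8, 9, 8, 9, 10, 10, 11, 12, 11,
      12, 13, 14, 15, 16] ∧
    (List.ofFn fun s => (cel2 s).length) = [0, 1, 2, 3, 4, 3, 4, 5, 5, 6, 7, 6, 7, 8, 9, 10] ∧
    (List.ofFn fun s => (cel3 s).length) = [0, 1, 2, 3, 2, 3, 4, 4, 5, 6] := by decide +kernel

end Cfsg.Agent.E8Deg
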