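import Cfsg.Agent.Chev.Rules
import Cfsg.Agent.ChevSteinberg.GrpSys
import Cfsg.Agent.ChevGrp.Bruhat
import Mathlib.RepresentationTheory.Irreducible

/-!
# Minimal degree of E₈(q): the root elements and their fixed spaces

Roots are indices below 240; the positive ones are `120, …, 239`; the fundamental roots are
`162, 141, 135, 130, 126, 123, 121, 120`, the highest root is `239`, and `p₁ + p₃` is `163`.
-/

set_option autoImplicit false

namespace Cfsg.Agent.E8Deg

open Cfsg.Lie Cfsg.Agent.ChevGrp
open Module (finrank)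

/-- The system of root elements inside the group. -/
noncomputable abbrev es (F : Type*) [Field F] : Sys chevE8 F ↥(chevE8.group F) :=
  ChevSteinberg.grpSys (Chev.rules_of_mem F (by simp))

variable {F : Type*} [Field F] {V : Type*} [AddCommGroup V] [Module ℂ V]

/-- The vectors fixed by the root subgroups of the roots in `T`. -/
noncomputable def fixd (ρ : Representation ℂ ↥(chevE8.group F) V) (T : Set ℕ) : Submodule ℂ V :=
  ⨅ r ∈ T, ⨅ t : F, LinearMap.ker (ρ ((es F).x r t) - 1)

theorem mem_fixd {ρ : Representation ℂ ↥(chevE8.group F) V} {T : Set ℕ} {v : V} :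
    v ∈ fixd ρ T ↔ ∀ r ∈ T, ∀ t : F, ρ ((es F).x r t) v = v := by
  simp [fixd, sub_eq_zero]

theorem fixd_anti {ρ : Representation ℂ ↥(chevE8.group F) V} {T T' : Set ℕ} (h : T ⊆ T') :
    fixd ρ T' ≤ fixd ρ T :=
  fun _ hv => mem_fixd.2 fun r hr => mem_fixd.1 hv r (h hr)

/-- The positive roots outside `J`. -/
def radSet (J : List ℕ) : Set ℕ := {r | 120 ≤ r ∧ r < 240 ∧ r ∉ J}

/-- What the counting along the chain of parabolic subgroups supplies for `3 ≤ q`: the dimensions of the fixed
spaces of the radicals belonging to the fundamental roots `{1}`, `{1,3}`, and a bound for `{1,4}` inside `{4}`. -/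
structure TailData (F : Type*) [Field F] [Fintype F] (ρ : Representation ℂ ↥(chevE8.group F) V) : Prop where
  dim1 : finrank ℂ (fixd ρ (radSet [162])) = Fintype.card F - 1 + finrank ℂ (fixd ρ (radSet []))
  dim13 : finrank ℂ (fixd ρ (radSet [162, 135, 163])) =
    Fintype.card F ^ 2 + Fintype.card F - 2 + finrank ℂ (fixd ρ (radSet []))
  dim14 : finrank ℂ (fixd ρ (radSet [162, 130])) <
    (Fintype.card F - 1) * Fintype.card F + finrank ℂ (fixd ρ (radSet [130]))

end Cfsg.Agent.E8Deg
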