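import Cfsg.Agent.E8Deg.Group
import Cfsg.Agent.Spec.StPres.Final
import Cfsg.Agent.MinDeg.SLTop

/-!
# The Levi subgroup of type A₇
-/

set_option autoImplicit false
set_option maxRecDepth 10000
set_option linter.unusedSectionVars false

namespace Cfsg.Agent.E8Deg

open Cfsg.Lie
open Module (finrank)

/-- The roots of the subsystem A₇. -/
def rA (i j : Fin 8) : ℕ :=
  (![![0, 162, 163, 164, 165, 166, 167, 168],
    ![77, 0, 135, 136, 137, 138, 139, 140],
    ![76, 104, 0, 130, 131, 132, 133, 134],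
    ![75, 103, 109, 0, 126, 127, 128, 129],
    ![74, 102, 108, 113, 0, 123, 124, 125],
    ![73, 101, 107, 112, 116, 0, 121, 122],
    ![72, 100, 106, 111, 115, 118, 0, 120],
    ![71, 99, 105, 110, 114, 117, 119, 0]] : Fin 8 → Fin 8 → ℕ) i j

/-- Their signs. -/
def sA (i j : Fin 8) : ℤ :=
  (![![1, 1, -1, 1, -1, 1, -1, 1],
    ![1, 1, 1, -1, 1, -1, 1, -1],
    ![-1, 1, 1, 1, -1, 1, -1, 1],
    ![1, -1, 1, 1, 1, -1, 1, -1],
    ![-1, 1, -1, 1, 1, 1, -1, 1],
    ![1, -1, 1, -1, 1, 1, 1, -1],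
    ![-1, 1, -1, 1, -1, 1, 1, 1],
    ![1, -1, 1, -1, 1, -1, 1, 1]] : Fin 8 → Fin 8 → ℤ) i j

theorem rA_lt : ∀ i j : Fin 8, rA i j < 240 := by decide +kernel

theorem rA_comm0 : ∀ i j k l : Fin 8, i ≠ j → k ≠ l → i ≠ l → j ≠ k → ¬(i = k ∧ j = l) →
    rA k l ≠ rA i j ∧ rA k l ≠ chevE8.neg (rA i j) ∧ chevE8.commTerms (rA i j) (rA k l) = [] := by
  decide +kernel

theorem rA_comm1 : ∀ i j l : Fin 8, i ≠ j → j ≠ l → i ≠ l →
    rA i j ≠ rA j l ∧ rA i j ≠ chevE8.neg (rA j l) ∧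
      chevE8.commTerms (rA j l) (rA i j) = [(rA i l, -(sA i j * sA j l * sA i l), 1, 1)] := by decide +kernel

theorem sA_sq : ∀ i j : Fin 8, sA i j * sA i j = 1 := by decide +kernel

variable {F : Type*} [Field F]

/-- The root elements of A₇. -/
noncomputable def xA (i j : Fin 8) (t : F) : Gam F := X (rA i j) ((sA i j : F) * t)

theorem sys_xA : Cfsg.Agent.Spec.StPres.Sys F 8 (xA (F := F)) where
  add i j _ t u := by rw [xA, xA, xA, X_add (rA_lt i j), mul_add]
  comm0 i j k l hij hkl hil hjk t u := by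
    by_cases h : i = k ∧ j = l
    · obtain ⟨rfl, rfl⟩ := h
      rw [xA, xA, X_add (rA_lt i j), X_add (rA_lt i j), add_comm]
    · obtain ⟨h1, h2, h3⟩ := rA_comm0 i j k l hij hkl hil hjk h
      exact (X_commute (rA_lt _ _) (rA_lt _ _) h1 h2 h3 _ _).eq
  comm1 i j l hij hjl hil t u := by
    obtain ⟨h1, h2, h3⟩ := rA_comm1 i j l hij hjl hil
    have hc1 := rA_comm0 i l j l hil hjl hil hjl.symm (fun e => hij e.1)
    have hc2 := rA_comm0 i l i j hil hij hij hil.symm (fun e => hjl e.2.symm)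
    rw [xA, xA, xA, X_comm_one (rA_lt _ _) (rA_lt _ _) h1 h2 h3]
    have c1 := X_commute (F := F) (rA_lt _ _) (rA_lt _ _) hc1.1 hc1.2.1 hc1.2.2
    have c2 := X_commute (F := F) (rA_lt _ _) (rA_lt _ _) hc2.1 hc2.2.1 hc2.2.2
    rw [mul_assoc, ← (c2 _ _).eq, ← mul_assoc, ← (c1 _ _).eq]
    congr 2
    congr 1
    have e : (sA i l : F) * (sA i l : F) = 1 := by
      rw [← Int.cast_mul, sA_sq, Int.cast_one]
    have e2 : (sA i j : F) * (sA i j : F) = 1 := by
      rw [← Int.cast_mul, sA_sq, Int.cast_one]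
    have e3 : (sA j l : F) * (sA j l : F) = 1 := by
      rw [← Int.cast_mul, sA_sq, Int.cast_one]
    push_cast
    linear_combination ((sA i l : F) * (sA i j : F) * (sA i j : F) * t * u) * e3 + ((sA i l : F) * t * u) * e2

variable [Fintype F] {V : Type*} [AddCommGroup V] [Module ℂ V] [FiniteDimensional ℂ V]

/-- The least degree of a nontrivial representation of SL₈, transported. -/
theorem le_finrank_levi (ρ : Representation ℂ (Gam F) V) (W : Submodule ℂ V)
    (hW : ∀ i j : Fin 8, i ≠ j → ∀ t : F, ∀ w ∈ W, ρ (X (rA i j) t) w ∈ W)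
    (hnt : ∃ t : F, ∃ w ∈ W, ρ (X 120 t) w ≠ w) :
    Fintype.card F ^ 8 - Fintype.card F ≤ (Fintype.card F - 1) * finrank ℂ W := by
  classical
  obtain ⟨Φ, hΦ⟩ := Cfsg.Agent.Spec.StPres.exists_hom (K := F) (show 3 ≤ 8 by norm_num) sys_xA
  have hstab : ∀ g, ∀ w ∈ W, ρ (Φ g) w ∈ W := fun g =>
    Linear.transvection_induction (fun g => ∀ w ∈ W, ρ (Φ g) w ∈ W)
      (fun i j h c w hw => by rw [hΦ i j h c]; exact hW i j h _ w hw)
      (fun a b ha hb w hw => by rw [map_mul, map_mul, Module.End.mul_apply]; exact ha _ (hb w hw)) g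
  let e : W ≃ₗ[ℂ] (Fin (finrank ℂ W) → ℂ) := (Module.finBasis ℂ W).equivFun
  let σ : Representation ℂ (Matrix.SpecialLinearGroup (Fin 8) F) (Fin (finrank ℂ W) → ℂ) :=
    { toFun := fun g => e.conj ((ρ (Φ g)).restrict (hstab g))
      map_one' := by
        rw [show (ρ (Φ 1)).restrict (hstab 1) = LinearMap.id from LinearMap.ext fun w => Subtype.ext (by simp)]
        exact LinearEquiv.conj_id _
      map_mul' := fun a b => by
        rw [show (ρ (Φ (a * b))).restrict (hstab (a * b)) =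
          ((ρ (Φ a)).restrict (hstab a)).comp ((ρ (Φ b)).restrict (hstab b)) from
            LinearMap.ext fun w => Subtype.ext (by simp)]
        exact LinearEquiv.conj_comp _ _ _ }
  obtain ⟨R, hR, hker⟩ := MinDeg.SLMin.exists_unitary σ
  have hntR : ∃ g, R g ≠ 1 := by
    obtain ⟨t, w, hw, hne⟩ := hnt
    refine ⟨Matrix.SpecialLinearGroup.transvection (show (6 : Fin 8) ≠ 7 by decide) t, fun h => hne ?_⟩
    have h1 := LinearMap.congr_fun (hker _ h) (e ⟨w, hw⟩)
    simp only [σ, MonoidHom.coe_mk, OneHom.coe_mk, LinearEquiv.conj_apply_apply, LinearEquiv.symm_apply_apply,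
      Module.End.one_apply, EmbeddingLike.apply_eq_iff_eq] at h1
    have h2 := congrArg Subtype.val h1
    rw [LinearMap.restrict_coe_apply, hΦ 6 7 (by decide) t] at h2
    simpa [xA, rA, sA] using h2
  have hb := MinDeg.SLMin.degree_bound (m := 5) hR hntR (by simp)
  have hq := Fintype.one_lt_card (α := F)
  have h : (((Fintype.card F ^ 8 - Fintype.card F : ℕ) : ℕ) : ℝ) ≤
      (((Fintype.card F - 1) * finrank ℂ W : ℕ) : ℝ) := by
    rw [Nat.cast_sub (Nat.le_self_pow (by norm_num) _), Nat.cast_mul, Nat.cast_sub hq.le, Nat.cast_pow,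
      Nat.cast_one]
    norm_num at hb ⊢
    linarith
  exact_mod_cast h

end Cfsg.Agent.E8Deg
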